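import Cfsg.Agent.H315.TwF.Main
import Cfsg.Agent.H392.TwFFour.Card
import Cfsg.Agent.TwoF.Gen.BWt
import Cfsg.Agent.TwoF.Gen.ACD

/-!
# TwoF, `²F₄(q)` in characteristic two: the commutator space of an involution has dimension at least `10 f` (helper88)
-/

set_option autoImplicit false
set_option linter.unusedSectionVars false

namespace Cfsg.Agent.TwoF.DC.TF.F2

open Cfsg Cfsg.Lie Cfsg.Agent.H315.TwF Cfsg.Agent.TwoF.Gen Subgroup
open scoped TensorProduct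

section eig

variable {k V G : Type*} [Field k] [AddCommGroup V] [Module k V] [Group G]

/-- the non-trivial eigenvalues of `x₁` -/
theorem five_mul_le [IsAlgClosed k] [FiniteDimensional k V] {ρ : G →* Module.End k V} {r q t : ℕ}
    (hr0 : (r : k) ≠ 0) {S₁ S₂ : Subgroup G} {a₁ h₁ x₁ g₁ a₂ h₂ x₂ g₂ : G}
    (D₁ : Side ρ r S₁ a₁ h₁ x₁ g₁) (D₂ : Side ρ r S₂ a₂ h₂ x₂ g₂) (comm : ∀ y ∈ S₁, ∀ z ∈ S₂, y * z = z * y)
    {s : V → V} (hs : Semi ρ q s) (hq1 : ∀ α : k, α ^ q = 1 → α = 1)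
    (ht : ∀ α : k, α ^ r = 1 → α ≠ 1 → (H315.TwF.Or q t α).card = t)
    (e11 : ∃ v : V, v ≠ 0 ∧ ∃ χ ψ : k, χ ≠ 1 ∧ ψ ≠ 1 ∧ ρ a₁ v = χ • v ∧ ρ a₂ v = ψ • v)
    (e10 : ∃ v : V, v ≠ 0 ∧ ∃ χ : k, χ ≠ 1 ∧ ρ a₁ v = χ • v ∧ ρ a₂ v = v) : 5 * t ≤ cod ρ (zpowers x₁) := by
  classical
  have comm' : ∀ y ∈ S₂, ∀ z ∈ S₁, y * z = z * y := fun y hy z hz => (comm z hz y hy).symm
  have key : ∀ ψ : k, (∃ v : V, v ≠ 0 ∧ ∃ χ : k, χ ≠ 1 ∧ ρ a₁ v = χ • v ∧ ρ a₂ v = ψ • v) →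
      ∃ α : k, α ≠ 1 ∧ ∃ v : V, v ≠ 0 ∧ ρ x₁ v = α • v ∧ ρ a₂ v = ψ • v := by
    rintro ψ ⟨v, hv0, χ, hχ, hav, hbv⟩
    have hM := inv_eig (ρ := ρ) (S := S₁) (z := a₂) (fun y hy => comm y hy a₂ D₂.ha) ψ
    have hne : ¬ ∀ v ∈ (ρ a₂).eigenspace ψ, ρ x₁ v = v := by
      intro hall
      have h1 := D₁.triv_a _ hM hall v (by rw [Module.End.mem_eigenspace_iff]; exact hbv)
      rw [hav] at h1
      apply hχ
      have h2 : (χ - 1) • v = 0 := by rw [sub_smul, one_smul, h1, sub_self]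
      rcases smul_eq_zero.1 h2 with h3 | h3
      · exact sub_eq_zero.1 h3
      · exact absurd h3 hv0
    obtain ⟨α, hα, u, hu, hu0, hxu⟩ := exists_ne_one ρ hr0 D₁.xr (hM x₁ D₁.hx) hne
    rw [Module.End.mem_eigenspace_iff] at hu
    exact ⟨α, hα, u, hu0, hxu, hu⟩
  obtain ⟨v, hv0, χ, ψ, hχ, hψ, hav, hbv⟩ := e11
  obtain ⟨α₀, hα₀, u₀, hu₀, hxu₀, hau₀⟩ := key ψ ⟨v, hv0, χ, hχ, hav, hbv⟩
  obtain ⟨v', hv0', χ', hχ', hav', hbv'⟩ := e10
  obtain ⟨α', hα', u', hu', hxu', hau'⟩ := key 1 ⟨v', hv0', χ', hχ', hav', by rw [one_smul]; exact hbv'⟩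
  set A := H315.TwF.Or q t α₀ with hA
  set A' := H315.TwF.Or q t α' with hA'
  have cA : A.card = t := ht α₀ (eig_pow hu₀ hxu₀ D₁.xr) hα₀
  have cA' : A'.card = t := ht α' (eig_pow hu' hxu' D₁.xr) hα'
  have hcase : ∀ α : k, (if α ∈ A then 4 else 0) + (if α ∈ A' then 1 else 0) ≤
      Module.finrank k ((ρ x₁).eigenspace α) := by
    intro α
    have hE := inv_eig (ρ := ρ) (S := S₂) (z := x₁) (fun y hy => comm' y hy x₁ D₁.hx) α
    have f1 : α ∈ A → ∃ ψ' : k, ψ' ≠ 1 ∧ ∃ v ∈ (ρ x₁).eigenspace α, v ≠ 0 ∧ ρ a₂ v = ψ' • v := by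
      intro hα
      obtain ⟨i, -, rfl⟩ := mem_Or.1 hα
      refine ⟨ψ ^ q ^ i, pow_ne_one hq1 hψ i, s^[i] u₀, ?_, hs.iter_ne i hu₀, hs.iter i hau₀⟩
      rw [Module.End.mem_eigenspace_iff]
      exact hs.iter i hxu₀
    have f2 : α ∈ A' → ∃ v ∈ (ρ x₁).eigenspace α, v ≠ 0 ∧ ρ a₂ v = v := by
      intro hα
      obtain ⟨i, -, rfl⟩ := mem_Or.1 hα
      refine ⟨s^[i] u', ?_, hs.iter_ne i hu', ?_⟩
      · rw [Module.End.mem_eigenspace_iff]
        exact hs.iter i hxu'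
      · have := hs.iter i hau'
        rwa [one_pow, one_smul] at this
    by_cases c1 : α ∈ A
    · obtain ⟨ψ', hψ', hv⟩ := f1 c1
      by_cases c2 : α ∈ A'
      · rw [if_pos c1, if_pos c2]
        exact D₂.five_le hE hψ' hv (f2 c2)
      · rw [if_pos c1, if_neg c2]
        exact D₂.four_le hE hψ' hv
    · by_cases c2 : α ∈ A'
      · rw [if_neg c1, if_pos c2]
        obtain ⟨v, hv, hv0, -⟩ := f2 c2
        have : Nontrivial ((ρ x₁).eigenspace α) := ⟨⟨⟨v, hv⟩, 0, fun h => hv0 (congrArg Subtype.val h)⟩⟩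
        have := Module.finrank_pos (R := k) (M := (ρ x₁).eigenspace α)
        omega
      · rw [if_neg c1, if_neg c2]
        exact Nat.zero_le _
  have h1 : (1 : k) ∉ A ∪ A' := by
    rw [Finset.mem_union, not_or]
    constructor
    · intro hm
      obtain ⟨i, -, h⟩ := mem_Or.1 hm
      exact pow_ne_one hq1 hα₀ i h
    · intro hm
      obtain ⟨i, -, h⟩ := mem_Or.1 hm
      exact pow_ne_one hq1 hα' i h
  have h2 := sum_le (ρ x₁) (insert 1 (A ∪ A'))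
  rw [Finset.sum_insert h1] at h2
  have h3 : ∑ α ∈ A ∪ A', ((if α ∈ A then 4 else 0) + (if α ∈ A' then 1 else 0)) ≤
      ∑ α ∈ A ∪ A', Module.finrank k ((ρ x₁).eigenspace α) := Finset.sum_le_sum fun α _ => hcase α
  have h4 : ∑ α ∈ A ∪ A', ((if α ∈ A then 4 else 0) + (if α ∈ A' then 1 else 0)) = 4 * t + t := by
    rw [Finset.sum_add_distrib, Finset.sum_ite_mem, Finset.sum_ite_mem, Finset.union_inter_cancel_left,
      Finset.union_inter_cancel_right, Finset.sum_const, Finset.sum_const, cA, cA', smul_eq_mul, smul_eq_mul, mul_one,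
      mul_comm]
  have h5 : fx ρ (zpowers x₁) = (ρ x₁).eigenspace 1 := by
    ext w
    rw [mem_fx_zpowers, Module.End.mem_eigenspace_iff, one_smul]
  have h6 := cod_add (ρ := ρ) (zpowers x₁)
  rw [h5] at h6
  omega

/-- the Frobenius map on the extended module -/
theorem semi_bc [Fintype k] (L : Type*) [Field L] [Algebra k L] [Algebra.IsAlgebraic k L]
    (ρ : Representation k G V) : ∃ s, Semi (bc L ρ) (Fintype.card k) s := by
  let τ := FiniteField.frobeniusAlgEquivOfAlgebraic k L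
  refine ⟨τ.toLinearMap.rTensor V, fun g x => ?_, fun c x => ?_, fun x hx h => hx ?_⟩
  · induction x with
    | zero => simp
    | tmul a v => simp [bc_tmul]
    | add x y hx hy => rw [map_add, map_add, hx, hy, map_add, map_add]
  · show _ = τ c • _
    induction x with
    | zero => simp
    | tmul a v => simp [TensorProduct.smul_tmul']
    | add x y hx hy => rw [smul_add, map_add, map_add, hx, hy, smul_add]
  · have inv : ∀ x : L ⊗[k] V, τ.symm.toLinearMap.rTensor V (τ.toLinearMap.rTensor V x) = x := by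
      intro x
      induction x with
      | zero => simp
      | tmul a v => simp
      | add x y hx hy => rw [map_add, map_add, hx, hy]
    rw [← inv x, h, map_zero]

/-- elements of odd order of a Suzuki group are inverted by an involution -/
theorem suz_inv (h : Lie.IsoSuzuki G) {x : G} {r : ℕ} (hr : Odd r) (hxr : x ^ r = 1) (hx1 : x ≠ 1) :
    ∃ i : G, i ≠ 1 ∧ i * i = 1 ∧ i * x * i⁻¹ = x⁻¹ := by
  obtain ⟨F, _, _, m, hm, hF, ⟨f⟩⟩ := h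
  have hy1 : f x ≠ 1 := fun h => hx1 (f.injective (h.trans (map_one f).symm))
  rcases Cfsg.Agent.H147.Sz.real hm hF (f x) hy1 with ⟨-, i, hi1, hi, h⟩ | ⟨a, b, h⟩
  · refine ⟨f.symm i, fun h1 => hi1 (f.symm.injective (h1.trans (map_one _).symm)), by rw [← map_mul, hi, map_one],
      f.injective ?_⟩
    rw [map_mul, map_mul, map_inv, map_inv, MulEquiv.apply_symm_apply, inv_eq_of_mul_eq_one_left hi, h]
  · exfalso
    obtain ⟨c, hc⟩ := isConj_iff.1 h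
    have h4 : (LieRecognition.SzMatrix.good hF).u a b ^ 4 = 1 := by
      rw [Cfsg.Agent.H84.SzLevi.four_eq, Cfsg.Agent.H147.Sz.u_sq, Cfsg.Agent.H147.Sz.u_sq, zero_mul,
        (LieRecognition.SzMatrix.good hF).u_zero]
    rw [← hc, conj_pow, conj_eq_one_iff] at h4
    have h6 : (f x) ^ r = 1 := by rw [← map_pow, hxr, map_one]
    have h7 := Nat.dvd_gcd (orderOf_dvd_of_pow_eq_one h4) (orderOf_dvd_of_pow_eq_one h6)
    have h8 : Nat.gcd 4 r = 1 := Nat.Coprime.pow_left 2 (Nat.coprime_two_left.2 hr)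
    rw [h8, Nat.dvd_one, orderOf_eq_one_iff] at h7
    exact hy1 h7

end eig

open Cfsg.Agent.ChevalleyStructure.TwF4.Rel Cfsg.Agent.ChevalleyStructure.TwF4.RankOne
open Cfsg.Agent.ChevalleyStructure.TwF4.TwistedFix Cfsg.Agent.KFacts.TwF4 Cfsg.Agent.KFacts.TwF4.Inst
open Cfsg.Agent.KFacts.TwF4.Irr Cfsg.Agent.CpAutTwF.Cent Cfsg.Agent.H496.TwFRad
open Cfsg.Agent.KFacts.TwF4.Arc Cfsg.Agent.KFacts.TwF4.Inv

section abs

variable {F : Type*} [Field F] [Finite F] {σ : F →+* F} {G : Type*} [Group G] [Finite G] (S : Full σ G)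

/-- the involutions of the Levi complement -/
theorem conj_L4 (hF : ∃ d : Fˣ, d ≠ 1) (hR : S.R.p = 2) (h2 : 2 ∣ Nat.card F) {i : G} (hi : i ∈ L4 S) (hi1 : i ≠ 1)
    (hii : i * i = 1) : ∃ l ∈ L4 S, ∃ v, v ≠ 0 ∧ l * i * l⁻¹ = S.e 4 0 v := by
  have : Fact (Nat.Prime 2) := ⟨Nat.prime_two⟩
  have c1 : Nat.card ((S.XZ 8).subgroupOf (L4 S)) = Nat.card F * Nat.card F := by
    rw [Nat.card_congr (subgroupOfEquivOfLe (X8_L4 S)).toEquiv, ← pow_two]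
    exact H392.TwFFour.card_even S 4
  have c2 := card_mul_index ((S.XZ 8).subgroupOf (L4 S))
  rw [c1, Levi.card_L4 S hF, mul_assoc (_ * _)] at c2
  have c3 := Nat.eq_of_mul_eq_mul_left (Nat.mul_pos Nat.card_pos Nat.card_pos) c2
  have c4 : ¬ 2 ∣ ((S.XZ 8).subgroupOf (L4 S)).index := by
    rw [c3, Nat.prime_two.dvd_mul]
    have h3 : 2 ∣ Nat.card F * Nat.card F := h2.mul_right _
    have h4 : 0 < Nat.card F := Nat.card_pos
    omega
  have hp : IsPGroup 2 ((S.XZ 8).subgroupOf (L4 S)) := (two_X S hR 8).comap_of_injective _ (L4 S).subtype_injective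
  have hA : IsPGroup 2 (zpowers (⟨i, hi⟩ : L4 S)) :=
    elemAb_isPGroup (elemAb_zpowers (Subtype.ext (by rw [pow_two]; exact hii)))
  obtain ⟨P', hP'⟩ := hA.exists_le_sylow
  obtain ⟨g, hg⟩ := MulAction.exists_smul_eq (L4 S) P' (hp.toSylow c4)
  have h3 : g * ⟨i, hi⟩ * g⁻¹ ∈ (S.XZ 8).subgroupOf (L4 S) := by
    show _ ∈ ((hp.toSylow c4 : Sylow 2 (L4 S)) : Subgroup (L4 S))
    rw [← hg]
    exact ⟨_, hP' (mem_zpowers _), rfl⟩
  obtain ⟨p, v, e⟩ := (mem_X8 S).1 h3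
  have e' : S.e 4 p v = g * i * (g : G)⁻¹ := e
  have h4 : S.e 4 p v * S.e 4 p v = 1 := by
    rw [e']
    calc (g : G) * i * (g : G)⁻¹ * (g * i * (g : G)⁻¹) = g * (i * i) * (g : G)⁻¹ := by group
      _ = 1 := by rw [hii]; group
  rw [e_sq] at h4
  have hp0 : p = 0 := by
    rcases mul_eq_zero.1 (S.e_eq_one h4).2 with h | h
    · exact h
    · exact (map_eq_zero σ).1 h
  subst hp0
  refine ⟨g, g.2, v, ?_, e'.symm⟩
  rintro rfl
  rw [S.e_zero] at e'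
  exact hi1 (conj_eq_one_iff.1 e'.symm)

/-- every involution inverts a conjugate of `x` -/
theorem inverts (hF : ∃ d : Fˣ, d ≠ 1) (hR : S.R.p = 2) (h2 : 2 ∣ Nat.card F) {i x : G} (hi : i ∈ L4 S) (hi1 : i ≠ 1)
    (hii : i * i = 1) (hx : x ∈ L4 S) (hix : i * x * i⁻¹ = x⁻¹) {d : G} (hd : d * d = 1) (hd1 : d ≠ 1) :
    ∃ g : G, d * (g * x * g⁻¹) * d⁻¹ = (g * x * g⁻¹)⁻¹ := by
  obtain ⟨l, hl, v, hv, e⟩ := conj_L4 S hF hR h2 hi hi1 hii
  have hx' : l * x * l⁻¹ ∈ L4 S := mul_mem (mul_mem hl hx) (inv_mem hl)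
  have h1 : S.e 4 0 v * (l * x * l⁻¹) * (S.e 4 0 v)⁻¹ = (l * x * l⁻¹)⁻¹ := by
    rw [← e]
    calc l * i * l⁻¹ * (l * x * l⁻¹) * (l * i * l⁻¹)⁻¹ = l * (i * x * i⁻¹) * l⁻¹ := by group
      _ = _ := by rw [hix]; group
  have h3 : ∀ u, S.e 4 0 v * S.e 2 0 u * (l * x * l⁻¹) * (S.e 4 0 v * S.e 2 0 u)⁻¹ = (l * x * l⁻¹)⁻¹ := fun u => by
    have h4 := S.comm_PL (L4_le_PL S hx') (z := S.e 2 0 u) ⟨u, rfl⟩
    rw [← h1, mul_assoc (S.e 4 0 v), ← h4]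
    group
  have key : ∀ a : G, a * (l * x * l⁻¹) * a⁻¹ = (l * x * l⁻¹)⁻¹ → Cj a d →
      ∃ g : G, d * (g * x * g⁻¹) * d⁻¹ = (g * x * g⁻¹)⁻¹ := by
    rintro a ha ⟨k, rfl⟩
    refine ⟨k * l, ?_⟩
    calc k * a * k⁻¹ * (k * l * x * (k * l)⁻¹) * (k * a * k⁻¹)⁻¹ = k * (a * (l * x * l⁻¹) * a⁻¹) * k⁻¹ := by group
      _ = _ := by rw [ha]; group
  have te : ∀ {w : F}, w ≠ 0 → Cj (S.e 0 0 1) (S.e 0 0 w) := fun {w} hw => by
    obtain ⟨χ, hχ⟩ := s1_surj S (Units.mk0 w hw)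
    refine ⟨S.h χ 1, ?_⟩
    rw [S.h_e, chE_zero, mul_zero, mul_one]
    congr 1
    exact congrArg Units.val hχ
  have to' : ∀ {w : F}, w ≠ 0 → Cj (S.o 0 1) (S.o 0 w) := fun {w} hw =>
    ⟨S.h (Units.mk0 w hw) 1, by rw [S.h_o, chO, chE_zero, zero_add, chE_one, mul_one, mul_one, Units.val_mk0]⟩
  rcases SylU.classes S hF hR hd hd1 with ⟨u, hu, h⟩ | ⟨t, ht, h⟩
  · refine key _ h1 ?_
    have h5 : Cj (S.e 4 0 v) (S.e 0 0 v) := ⟨S.n2, by rw [S.n2_e, sub_self]⟩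
    exact ((h5.trans (te hv).symm).trans (te hu)).trans h.symm
  · refine key _ (h3 (1 * 1 * σ 1 * v)) ?_
    have h5 : Cj (S.o 3 (1 * v)) (S.o 0 (1 * v)) := ⟨S.n2, by rw [S.n2_o, sub_self]⟩
    exact ((((zz_conj S one_ne_zero hv).symm.trans h5).trans (to' (by rwa [one_mul])).symm).trans (to' ht)).trans h.symm

end abs

variable {K : Type*} [Field K] [Fintype K] {m : ℕ}

/-- **the commutator space of an involution** -/
theorem ten_le {V : Type*} [AddCommGroup V] [Module (ZMod 2) V] [Finite V] (hm : 1 ≤ m)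
    (hK : Fintype.card K = 2 ^ (2 * m + 1)) (ρ : Representation (ZMod 2) ↥(twistedF4 K (2 ^ m)) V)
    (hρ : Function.Injective ρ) {d : ↥(twistedF4 K (2 ^ m))} (hd : d * d = 1) (hd1 : d ≠ 1) :
    10 * (2 * m + 1) ≤ cod ρ (zpowers d) := by
  have := Cfsg.Agent.ChevalleyStructure.TwF4.Twisted.charP_two hK
  obtain ⟨r, hr, hprim, -, hr2⟩ := Cfsg.Agent.Lib.Zsigmondy.exists_primitive (a := 2) (n := 4 * (2 * m + 1)) le_rfl
    (by omega) (fun h => by omega) (by omega)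
  have hfr : Fact r.Prime := ⟨hr⟩
  have hrne : r ≠ 2 := fun h => hr2 (h ▸ dvd_rfl)
  have hK' : Nat.card K = 2 ^ (2 * m + 1) := by rw [Nat.card_eq_fintype_card, hK]
  have hdvd : r ∣ Nat.card K * Nat.card K + 1 := by
    have h1 : r ∣ 2 ^ (4 * (2 * m + 1)) - 1 := (hprim _).2 dvd_rfl
    have h2 : ¬ r ∣ 2 ^ (2 * (2 * m + 1)) - 1 := fun h3 => by
      have := Nat.le_of_dvd (by omega) ((hprim _).1 h3)
      omega
    rw [show 4 * (2 * m + 1) = 2 * (2 * m + 1) * 2 by ring, pow_mul, ← one_pow 2, Nat.sq_sub_sq] at h1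
    rw [hK', ← pow_add, ← two_mul]
    exact (hr.dvd_mul.1 h1).resolve_right h2
  have hord : orderOf ((2 : ℕ) : ZMod r) = 4 * (2 * m + 1) := by
    have key : ∀ n, ((2 : ℕ) : ZMod r) ^ n = 1 ↔ 4 * (2 * m + 1) ∣ n := fun n => by
      rw [← hprim, ← ZMod.natCast_eq_zero_iff, Nat.cast_sub Nat.one_le_two_pow, Nat.cast_pow, Nat.cast_one,
        sub_eq_zero]
    exact Nat.dvd_antisymm (orderOf_dvd_of_pow_eq_one ((key _).2 dvd_rfl)) ((key _).1 (pow_orderOf_eq_one _))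
  obtain ⟨φ, hφ⟩ := exists_rln hK
  obtain ⟨A, B, ga, gb, c, h, hA1, hA, hga, hB, hgb⟩ := exists_rels_mem hK hφ
  obtain ⟨S, hS⟩ : ∃ S : Full φ ↥(twistedF4 K (2 ^ m)), S = full hK hφ := ⟨_, rfl⟩
  have hR : S.R.p = 2 := by rw [hS]; rfl
  rw [← hS] at hA hga hB hgb
  have hI : Lie.IsoSuzuki ↥(L4 S) := by
    have h1 := Cfsg.Agent.H84.GaussTwF4.LL_iso S (k := 2 * m + 1) (by omega) hK'
    rw [Cfsg.Agent.H84.GaussTwF4.LJ_eq] at h1
    have h2 : H84.GaussTwF4.LL S = L4 S := sup_comm _ _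
    rwa [h2] at h1
  have e : ↥(L4 S) ≃* ↥(M4 S) := ((L4 S).equivMapOfInjective (S.ck 2).toMonoidHom (S.ck 2).injective).trans
    (MulEquiv.subgroupCongr (map_L4 S))
  have hI' : Lie.IsoSuzuki ↥(M4 S) := by
    obtain ⟨F, i1, i2, n, hn, hF, ⟨f⟩⟩ := hI
    exact ⟨F, i1, i2, n, hn, hF, ⟨e.symm.trans f⟩⟩
  have hFu : ∃ d : Kˣ, d ≠ 1 := by
    have h1 : 1 < Nat.card Kˣ := by
      rw [Nat.card_units, hK']
      have : 2 ^ 3 ≤ 2 ^ (2 * m + 1) := Nat.pow_le_pow_right (by norm_num) (by omega)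
      omega
    have h2 : Nontrivial Kˣ := Finite.one_lt_card_iff_nontrivial.1 h1
    exact exists_ne 1
  have hdL : r ∣ Nat.card (L4 S) := by
    rw [Levi.card_L4 S hFu]
    exact Dvd.dvd.mul_left hdvd _
  obtain ⟨x₁, hx₁⟩ := exists_prime_orderOf_dvd_card' r hdL
  have hdM : r ∣ Nat.card (M4 S) := by rw [← Nat.card_congr e.toEquiv]; exact hdL
  obtain ⟨x₂, hx₂⟩ := exists_prime_orderOf_dvd_card' r hdM
  have hodd : Odd r := hr.odd_of_ne_two hrne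
  have key : ∀ {H : Subgroup ↥(twistedF4 K (2 ^ m))} (x : H), orderOf x = r → x ≠ 1 ∧ x ^ r = 1 := by
    intro H x hx
    refine ⟨?_, by rw [← hx]; exact pow_orderOf_eq_one x⟩
    rintro rfl
    rw [orderOf_one] at hx
    exact hr.one_lt.ne hx
  obtain ⟨hx₁1, hx₁r⟩ := key x₁ hx₁
  obtain ⟨hx₂1, hx₂r⟩ := key x₂ hx₂
  have hB1 : B ≠ 1 := by
    intro hB1
    have h1 := h.cB
    rw [hB1, mul_one, mul_one, mul_one] at h1
    exact hA1 (mul_eq_right.1 h1.symm)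
  have cube : ∀ X : ↥(twistedF4 K (2 ^ m)), X * X * X = X ^ 3 := fun X => by
    simp only [pow_succ, pow_zero, one_mul]
  let L := AlgebraicClosure (ZMod 2)
  have hodd' : ∀ a : ℕ, ¬ 2 ∣ a → (a : L) ≠ 0 := fun a ha h0 => ha ((CharP.cast_eq_zero_iff L 2 a).1 h0)
  have h5 : (5 : L) ≠ 0 := by exact_mod_cast hodd' 5 (by norm_num)
  obtain ⟨g₁, D₁⟩ := exists_side (bc L ρ) hI hA hA1 hga (A5 h) (by rw [← cube]; exact h.gaA) x₁.2
    (fun h => hx₁1 (Subtype.ext h)) hodd (congrArg Subtype.val hx₁r)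
  obtain ⟨g₂, D₂⟩ := exists_side (bc L ρ) hI' hB hB1 hgb (B5 h) (by rw [← cube]; exact h.gbB) x₂.2
    (fun h => hx₂1 (Subtype.ext h)) hodd (congrArg Subtype.val hx₂r)
  obtain ⟨e11, -, e10⟩ := chars (ρ := bc L ρ) h h5 fun h1 => hA1 (bc_injective L hρ (h1.trans (map_one _).symm))
  obtain ⟨s, hs⟩ := semi_bc L ρ
  rw [ZMod.card] at hs
  have h1 := five_mul_le (t := orderOf ((2 : ℕ) : ZMod r))
    (hodd' r fun h => hrne ((Nat.prime_dvd_prime_iff_eq Nat.prime_two hr).1 h).symm) D₁ D₂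
    (fun y hy z hz => L4_comm_M4 S hy hz) hs (fun α hα => by
      rcases sq_eq_one_iff.1 hα with h | h
      · exact h
      · rw [h, CharTwo.neg_eq]) (fun α h1 h2 => card_Or hr h1 h2) e11 e10
  rw [cod_bc, hord] at h1
  obtain ⟨i, hi1, hii, hix⟩ := suz_inv hI hodd hx₁r hx₁1
  obtain ⟨g, hg⟩ := inverts S hFu hR (by rw [hK']; exact dvd_pow_self 2 (by omega)) i.2
    (fun h => hi1 (Subtype.ext h)) (congrArg Subtype.val hii) x₁.2 (congrArg Subtype.val hix) hd hd1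
  have h2 := cod_le_of_inverts (ρ := ρ) (by
    rw [← MulAut.conj_apply, MulEquiv.orderOf_eq, Subgroup.orderOf_coe, hx₁]; exact hodd) hg
  rw [cod_zpowers_conj] at h2
  omega

end Cfsg.Agent.TwoF.DC.TF.F2
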