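import Cfsg.Agent.H392.TwFFour.Bound

/-!
# TwoF, `²F₄(q)` in characteristic two: elementary abelian subgroups have order at most `q⁵` (helper88)
-/

set_option autoImplicit false
set_option linter.unusedSectionVars false

open scoped commutatorElement

namespace Cfsg.Agent.TwoF.DC.TF.F2

open Cfsg.Agent.SplitTwo Cfsg.Agent.SplitTwo.ZS Cfsg.Agent.TitsThree.RankTwoZ Cfsg.Agent.KFacts.TwF4
open Cfsg.Agent.KFacts.TwF4.Arc Cfsg.Agent.KFacts.TwF4.Irr Cfsg.Agent.KFacts.TwF4.Inv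
open Cfsg.Agent.H392 Cfsg.Agent.H392.TwFFour

universe u

section abs

variable {G : Type u} [Group G]

/-- counting by fibres -/
theorem card_le_fib [Finite G] {A B : Subgroup G} {T : Type*} [Finite T] (f : A → T)
    (h : ∀ a b : A, f a = f b → (a : G) * (b : G)⁻¹ ∈ B) :
    Nat.card A ≤ Nat.card T * Nat.card (A ⊓ B : Subgroup G) := by
  classical
  have hr : ∀ a : A, ∃ b : A, f b = f a := fun a => ⟨a, rfl⟩
  let r : T → A := fun t => if ht : ∃ b : A, f b = t then ht.choose else 1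
  have hr' : ∀ a : A, f (r (f a)) = f a := fun a => by
    simp only [r, dif_pos (hr a)]
    exact (hr a).choose_spec
  rw [← Nat.card_prod]
  refine Nat.card_le_card_of_injective (fun a : A => ((f a, ⟨(a : G) * ((r (f a) : A) : G)⁻¹,
    Subgroup.mem_inf.2 ⟨A.mul_mem a.2 (A.inv_mem (r (f a)).2), h a _ (hr' a).symm⟩⟩) : T × (A ⊓ B : Subgroup G))) ?_
  intro a b hab
  obtain ⟨h1, h2⟩ := Prod.mk.inj hab
  have h3 : (a : G) * ((r (f a) : A) : G)⁻¹ = (b : G) * ((r (f b) : A) : G)⁻¹ := congrArg Subtype.val h2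
  rw [h1] at h3
  exact Subtype.ext (mul_right_cancel h3)

theorem sq3 {a b c α γ : G} (h1 : b * a = a * b * α) (h2 : c * a = a * c * γ) (h3 : c * b = b * c)
    (h4 : b * α = α * b) (h5 : γ * b = b * γ) (h6 : c * γ = γ * c) (h7 : c * c = 1) :
    a * b * c * (a * b * c) = a * a * α * (b * b * γ) := by
  calc a * b * c * (a * b * c) = a * b * (c * a) * b * c := by group
    _ = a * (b * a) * c * (γ * b) * c := by rw [h2]; group
    _ = a * a * (b * α) * (c * b) * γ * c := by rw [h1, h5]; group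
    _ = a * a * α * b * b * (c * γ) * c := by rw [h4, h3]; group
    _ = a * a * α * (b * b * γ) * (c * c) := by rw [h6]; group
    _ = _ := by rw [h7, mul_one]

theorem swap_of {a b α : G} (h : a * b = b * a * α) (hα : α * α = 1) : b * a = a * b * α := by
  rw [h, mul_assoc, hα, mul_one]

end abs

variable {F : Type*} [Field F] [Finite F] {σ : F →+* F} {G : Type u} [Group G] (S : Full σ G)

/-- the normal form of the elements of `Q` -/
def qf (t p u : F) (m : G) (r w s : F) : G := S.o 0 t * (S.e 1 p u * (m * (S.e 3 r w * S.o 3 s)))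

theorem q2_mem (u s z t w : F) : q2 S u s z t w ∈ S.Q2 := (mem_Q2 S).2 ⟨_, _, _, _, _, rfl⟩

theorem cm_qf (t p u : F) {m : G} (hm : m ∈ S.Q1) (r w s u' s' z' t' w' : F) :
    Cm S (qf S t p u m r w s) (q2 S u' s' z' t' w') (t * w' + p * t' + r * s' + s * u') := by
  have hz : ∀ {x : G}, x ∈ S.Q → ∀ z, Cm S x (S.e 2 0 z) 0 := fun hx z => Cm.of_comm S (z_comm S (Q_PL S hx) z)
  have h1 : Cm S (S.o 0 t) (q2 S u' s' z' t' w') (0 + 0 + 0 + 0 + t * w') := by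
    refine mulx S _ _ _ _ _ (Cm.of_comm S (S.o_e1 0 t 0 u')) (Cm.of_comm S (S.o_o1 0 t s')) (hz (o0_Q S t) _)
      (Cm.of_comm S (S.o_o2 0 t t')) ?_
    have h := S.o_e3 0 t 0 w'
    simp only [map_zero, mul_zero, S.e_zero, S.o_zero, mul_one, zero_add] at h
    exact h
  have h2 : Cm S (S.e 1 p u) (q2 S u' s' z' t' w') (0 + 0 + 0 + p * t' + 0) := by
    refine mulx S _ _ _ _ _ (Cm.of_comm S ?_) (Cm.of_comm S (S.e_o0 1 p u s')) (hz (e1_Q S p u) _)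
      ?_ (Cm.of_comm S (S.e_e2 1 p u 0 w'))
    · rw [S.e_mul, S.e_mul]
      simp only [map_zero, mul_zero, zero_mul, add_zero, zero_add]
      rw [add_comm]
    · exact S.e_o1 1 p u t'
  have h3 : Cm S m (q2 S u' s' z' t' w') 0 := Cm.of_comm S (S.Q1_comm hm (q2_mem S _ _ _ _ _))
  have h4 : Cm S (S.e 3 r w) (q2 S u' s' z' t' w') (0 + r * s' + 0 + 0 + 0) := by
    refine mulx S _ _ _ _ _ (Cm.of_comm S (S.e_e2 1 0 u' r w).symm) ?_ (hz (e3_Q S r w) _)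
      (Cm.of_comm S (S.o_e1 2 t' r w).symm) (Cm.of_comm S ?_)
    · refine Cm.swap S (Q_PL S (e3_Q S r w)) (Q2_PL S (S.q2_2 _)) ?_
      have h := S.o_e2 1 s' r w
      rw [mul_comm r s']
      exact h
    · rw [S.e_mul, S.e_mul]
      simp only [map_zero, mul_zero, zero_mul, add_zero, zero_add]
      rw [add_comm]
  have h5 : Cm S (S.o 3 s) (q2 S u' s' z' t' w') (s * u' + 0 + 0 + 0 + 0) := by
    refine mulx S _ _ _ _ _ ?_ (Cm.of_comm S (S.o_o2 1 s' s).symm) (hz (o3_Q S s) _)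
      (Cm.of_comm S (S.o_o1 2 t' s).symm) (Cm.of_comm S (S.e_o0 3 0 w' s).symm)
    refine Cm.swap S (Q_PL S (o3_Q S s)) (Q2_PL S (S.q2_1 _)) ?_
    have h := S.e_o2 1 0 u' s
    simp only [map_zero, mul_zero, zero_mul, S.e_zero, S.o_zero, mul_one, zero_add] at h
    rw [mul_comm s u']
    exact h
  have hmP : m ∈ S.PL := Q_PL S (Q1_le_Q S hm)
  have h6 := h1.mul_left S (mul_mem (Q_PL S (e1_Q S p u)) (mul_mem hmP (mul_mem (Q_PL S (e3_Q S r w))
    (Q_PL S (o3_Q S s))))) (h2.mul_left S (mul_mem hmP (mul_mem (Q_PL S (e3_Q S r w))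
    (Q_PL S (o3_Q S s)))) (h3.mul_left S (mul_mem (Q_PL S (e3_Q S r w))
    (Q_PL S (o3_Q S s))) (h4.mul_left S (Q_PL S (o3_Q S s)) h5)))
  have e : 0 + 0 + 0 + 0 + t * w' + (0 + 0 + 0 + p * t' + 0 + (0 + (0 + r * s' + 0 + 0 + 0 +
      (s * u' + 0 + 0 + 0 + 0)))) = t * w' + p * t' + r * s' + s * u' := by ring
  rw [e] at h6
  exact h6

theorem cm_uniq {a n : G} {c c' : F} (h : Cm S a n c) (h' : Cm S a n c') : c = c' := by
  unfold Cm at h h'
  rw [h] at h'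
  exact (S.injE _ _ _ _ _ (mul_left_cancel h')).2

theorem q2_inj {u s z t w u' s' z' t' w' : F} (h : q2 S u s z t w = q2 S u' s' z' t' w') :
    u = u' ∧ s = s' ∧ t = t' ∧ w = w' := by
  have key : ∀ a b c d : F, a * w + b * t + c * s + d * u = a * w' + b * t' + c * s' + d * u' := fun a b c d => by
    have h1 := cm_qf S a b 0 (one_mem S.Q1) c 0 d u s z t w
    rw [h] at h1
    exact cm_uniq S h1 (cm_qf S a b 0 (one_mem S.Q1) c 0 d u' s' z' t' w')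
  refine ⟨?_, ?_, ?_, ?_⟩
  · simpa using key 0 0 0 1
  · simpa using key 0 0 1 0
  · simpa using key 0 1 0 0
  · simpa using key 1 0 0 0

theorem q2_z (z : F) : q2 S 0 0 z 0 0 = S.e 2 0 z := by
  unfold q2
  rw [S.e_zero, S.o_zero, S.o_zero, S.e_zero, one_mul, one_mul, mul_one, mul_one]

theorem q2_345 (z t w : F) : q2 S 0 0 z t w = S.e 2 0 z * S.o 2 t * S.e 3 0 w := by
  unfold q2
  rw [S.e_zero, S.o_zero, one_mul, one_mul]

theorem e40_PL (c : F) : S.e 4 0 c ∈ S.PL := mem_J ((mem_X8 S).2 ⟨0, c, rfl⟩) (by norm_num) (by norm_num)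

theorem dl_z1 (c u : F) : dl (S.e 4 0 c) (S.e 1 0 u) = S.e 2 0 (σ u * c) * S.o 2 (u * c) * S.e 3 0 (u * σ c) := by
  have h := S.e_e3 1 0 u 0 c
  simp only [map_zero, mul_zero, zero_mul, mul_one, zero_add, add_zero, S.o_zero] at h
  have h' : S.e 1 0 u * S.e 4 0 c = S.e 4 0 c * S.e 1 0 u *
      (S.e 2 0 (σ u * c) * S.o 2 (u * c) * S.e 3 0 (u * σ c)) := by
    rw [← mul_assoc, ← mul_assoc]; exact h
  exact dl_of h'

theorem dl_o1 (c s : F) : dl (S.e 4 0 c) (S.o 1 s) = S.e 3 0 (s * c) := by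
  have h := S.o_e3 1 s 0 c
  simp only [map_zero, mul_zero, mul_one, zero_add, S.o_zero, S.e_zero] at h
  exact dl_of h

theorem dl_q2 (c u s z t w : F) :
    dl (S.e 4 0 c) (q2 S u s z t w) = q2 S 0 0 (σ u * c) (u * c) (u * σ c + s * c) := by
  rw [q2_345]
  unfold q2
  rw [dl_Q2 S (e40_PL S c) (mul_mem (mul_mem (mul_mem (S.q2_1 _) (S.q2_2 _)) (S.q2_3 _)) (S.q2_4 _)) (S.q2_5 _),
    dl_Q2 S (e40_PL S c) (mul_mem (mul_mem (S.q2_1 _) (S.q2_2 _)) (S.q2_3 _)) (S.q2_4 _),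
    dl_Q2 S (e40_PL S c) (mul_mem (S.q2_1 _) (S.q2_2 _)) (S.q2_3 _),
    dl_Q2 S (e40_PL S c) (S.q2_1 _) (S.q2_2 _), dl_z1, dl_o1, dl_z2, dl_o2, dl_e3, mul_zero, S.e_zero, zero_mul,
    S.o_zero, mul_one, mul_one, mul_one, mul_assoc _ (S.e 3 0 _), z_add]

/-- conjugation of `Q2` by an element outside `Q` -/
theorem conj_q2 (c : F) {x : G} (hx : x ∈ S.Q) (u s z t w : F) : ∃ z', (S.e 4 0 c * x)⁻¹ * q2 S u s z t w *
    (S.e 4 0 c * x) = q2 S u s z' (t + u * c) (w + (u * σ c + s * c)) := by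
  have h1 : (S.e 4 0 c)⁻¹ * q2 S u s z t w * S.e 4 0 c =
      q2 S u s (z + σ u * c) (t + u * c) (w + (u * σ c + s * c)) := by
    have h2 := dl_q2 S c u s z t w
    unfold dl at h2
    rw [inv_mul_eq_iff_eq_mul, q2_mul, add_zero, add_zero] at h2
    exact h2
  obtain ⟨t1, p1, u1, m, hm, r1, w1, s1, e⟩ := form_Q S (inv_mem hx)
  have h3 := cm_qf S t1 p1 u1 hm r1 w1 s1 u s (z + σ u * c) (t + u * c) (w + (u * σ c + s * c))
  unfold qf at h3
  rw [← e] at h3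
  obtain ⟨d, h3⟩ : ∃ d, Cm S x⁻¹ (q2 S u s (z + σ u * c) (t + u * c) (w + (u * σ c + s * c))) d := ⟨_, h3⟩
  unfold Cm at h3
  refine ⟨z + σ u * c + d, ?_⟩
  calc (S.e 4 0 c * x)⁻¹ * q2 S u s z t w * (S.e 4 0 c * x)
      = x⁻¹ * ((S.e 4 0 c)⁻¹ * q2 S u s z t w * S.e 4 0 c) * x := by group
    _ = q2 S u s (z + σ u * c) (t + u * c) (w + (u * σ c + s * c)) * (x⁻¹ * S.e 2 0 d) * x := by
        rw [h1, h3]; group
    _ = q2 S u s (z + σ u * c) (t + u * c) (w + (u * σ c + s * c)) * S.e 2 0 d := by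
        rw [z_comm S (Q_PL S (inv_mem hx))]; group
    _ = _ := by rw [← q2_z, q2_mul, add_zero, add_zero, add_zero, add_zero]

theorem cm_conj {g a n : G} {c : F} (ha : a ∈ S.PL) (hga : g * a = a * g) (h : Cm S g n c) :
    Cm S g (a⁻¹ * n * a) c := by
  unfold Cm at h ⊢
  have h1 : g * a⁻¹ = a⁻¹ * g := (show Commute g a from hga).inv_right.eq
  calc g * (a⁻¹ * n * a) = (g * a⁻¹) * n * a := by group
    _ = a⁻¹ * (g * n) * a := by rw [h1]; group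
    _ = a⁻¹ * n * g * (S.e 2 0 c * a) := by rw [h]; group
    _ = a⁻¹ * n * (g * a) * S.e 2 0 c := by rw [← z_comm S ha]; group
    _ = _ := by rw [hga]; group

theorem zero_of_mul_σ {p : F} (h : p * σ p = 0) : p = 0 := by
  rcases mul_eq_zero.1 h with h | h
  · exact h
  · exact (map_eq_zero σ).1 h

/-- involutions of `Q1` -/
theorem mem_Q2_of_sq {x : G} (hx : x ∈ S.Q1) (hxx : x * x = 1) : x ∈ S.Q2 := by
  obtain ⟨p, u, y, hy, hxy, h⟩ := Q1_sq S hx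
  rw [hxx] at h
  have hp := zero_of_mul_σ (S.e_eq_one h.symm).2
  rw [hxy, hp]
  exact mul_mem (S.q2_3 u) hy

/-- involutions of `U` -/
theorem form_U {y : G} (hy : y ∈ J S.XZ 1 8) (hyy : y * y = 1) : ∃ c, ∃ x ∈ S.Q, y = S.e 4 0 c * x := by
  have Z := S.zsys8
  obtain ⟨x, hx, q, hq, rfl⟩ := Z.split_rl (a := 1) (b := 8) (by norm_num) (by norm_num) hy
  rw [show (8 : ℤ) - 1 = 7 by norm_num] at hq
  have c8 : ∀ {w}, w ∈ S.XZ 8 → ∀ x ∈ J S.XZ 1 7, w * x * w⁻¹ ∈ J S.XZ 1 7 := fun hw x hx =>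
    Z.conj_X (by norm_num) (by norm_num) (by norm_num) hw hx
  obtain ⟨p, v, rfl⟩ := (mem_X8 S).1 hx
  have hxx : S.e 4 p v * S.e 4 p v = 1 := by
    have h1 : S.e 4 p v * S.e 4 p v ∈ J S.XZ 1 7 := by
      have e : S.e 4 p v * S.e 4 p v = ((S.e 4 p v * q) * (S.e 4 p v * q)) *
          (q⁻¹ * ((S.e 4 p v)⁻¹ * q⁻¹ * (S.e 4 p v)⁻¹⁻¹)) := by group
      rw [e, hyy, one_mul]
      exact mul_mem (inv_mem hq) (c8 (inv_mem hx) _ (inv_mem hq))
    exact Z.inter' (mul_mem hx hx) (J_mono (by norm_num) (by norm_num) h1)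
  rw [e_sq] at hxx
  have hp := zero_of_mul_σ (S.e_eq_one hxx).2
  subst hp
  exact ⟨v, q, hq, rfl⟩

/-- the involutions of `Q` which commute with an involution outside `Q` -/
theorem form_cent {c : F} (hc : c ≠ 0) {x g : G} (hx : x ∈ S.Q) (hg : g ∈ S.Q) (hgg : g * g = 1)
    (hga : g * (S.e 4 0 c * x) = (S.e 4 0 c * x) * g) : ∃ m ∈ S.Q1, ∃ s, g = m * S.o 3 s := by
  obtain ⟨t, p, u, m, hm, r, w, s, e⟩ := form_Q S hg
  have ha : S.e 4 0 c * x ∈ S.PL := mul_mem (e40_PL S c) (Q_PL S hx)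
  have key : ∀ u' s' : F, t * (u' * σ c + s' * c) + p * (u' * c) = 0 := by
    intro u' s'
    have h1 := cm_qf S t p u hm r w s u' s' 0 0 0
    obtain ⟨z', h2⟩ := conj_q2 S c hx u' s' 0 0 0
    have h3 := cm_qf S t p u hm r w s u' s' z' (0 + u' * c) (0 + (u' * σ c + s' * c))
    unfold qf at h1 h3
    rw [← e] at h1 h3
    have h4 := cm_conj S ha hga h1
    rw [h2] at h4
    have h5 := cm_uniq S h3 h4
    linear_combination h5
  have ht : t = 0 := by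
    have h1 := key 0 1
    simpa [hc] using h1
  have hp : p = 0 := by
    have h1 := key 1 0
    simpa [hc, ht] using h1
  subst ht hp
  obtain ⟨p', u', y, hy, hmy, -⟩ := Q1_sq S hm
  have hE : S.e 2 p' u' ∈ S.Q1 := Subgroup.mem_sup_left ((mem_X4 S).2 ⟨_, _, rfl⟩)
  obtain ⟨u0, s0, z0, t0, w0, e0⟩ := (mem_Q2 S).1 (mul_mem (S.q2_1 u) hy)
  have e1 : g = q2 S u0 s0 z0 t0 w0 * (S.e 2 p' u' * S.e 3 r w * S.o 3 s) := by
    rw [e, e0, hmy, S.o_zero, S.Q1_comm hE hy]; group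
  have h1 := cm_qf S 0 0 0 hE r w s u0 s0 z0 t0 w0
  obtain ⟨d, h1⟩ : ∃ d, Cm S (S.e 2 p' u' * S.e 3 r w * S.o 3 s) (q2 S u0 s0 z0 t0 w0) d := by
    unfold qf at h1
    rw [S.o_zero, S.e_zero, one_mul, one_mul, ← mul_assoc] at h1
    exact ⟨_, h1⟩
  have h2 : S.e 2 p' u' * S.e 3 r w * S.o 3 s * (S.e 2 p' u' * S.e 3 r w * S.o 3 s) =
      q2 S 0 0 (p' * σ p') (p' * r) (r * σ r + p' * s) := by
    have k1 : S.e 2 p' u' * S.e 3 r w = S.e 3 r w * S.e 2 p' u' * S.o 2 (p' * r) := S.e_e1 2 p' u' r w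
    have k2 : S.e 2 p' u' * S.o 3 s = S.o 3 s * S.e 2 p' u' * S.e 3 0 (p' * s) := S.e_o1 2 p' u' s
    have k3 : S.o 2 (p' * r) * S.e 3 r w = S.e 3 r w * S.o 2 (p' * r) := S.o_e1 2 _ r w
    have k4 : S.e 3 0 (p' * s) * S.e 3 r w = S.e 3 r w * S.e 3 0 (p' * s) := by
      rw [S.e_mul, S.e_mul]
      simp only [map_zero, mul_zero, zero_mul, add_zero, zero_add]
      rw [add_comm]
    rw [sq3 (swap_of k1 (o_sq S _ _)) (swap_of k2 (z_sq S _ _)) (S.e_o0 3 r w s).symm k3.symm k4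
      (S.e_o0 3 0 _ s).symm (o_sq S _ _), e_sq, e_sq, q2_345, z_add]
  have h3 : q2 S 0 0 (d + p' * σ p') (p' * r) (r * σ r + p' * s) = q2 S 0 0 0 0 0 := by
    unfold Cm at h1
    have h4 : q2 S u0 s0 z0 t0 w0 * q2 S u0 s0 z0 t0 w0 = 1 := by
      rw [q2_mul, char2 S, char2 S, char2 S, char2 S, char2 S, q2_zero]
    have h5 : S.e 2 p' u' * S.e 3 r w * S.o 3 s ∈ S.PL :=
      mul_mem (mul_mem (Q_PL S (Q1_le_Q S hE)) (Q_PL S (e3_Q S r w))) (Q_PL S (o3_Q S s))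
    rw [q2_zero, ← hgg, e1]
    set k := S.e 2 p' u' * S.e 3 r w * S.o 3 s
    set y0 := q2 S u0 s0 z0 t0 w0
    calc q2 S 0 0 (d + p' * σ p') (p' * r) (r * σ r + p' * s) = S.e 2 0 d * (k * k) := by
          rw [h2, ← q2_z, q2_mul]; simp only [zero_add]
      _ = (y0 * y0) * ((S.e 2 0 d * k) * k) := by rw [h4]; group
      _ = y0 * (y0 * k * S.e 2 0 d) * k := by rw [← z_comm S h5]; group
      _ = _ := by rw [← h1]; group
  obtain ⟨-, -, h4, h5⟩ := q2_inj S h3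
  have hr : r = 0 := by
    rcases mul_eq_zero.1 h4 with h | h
    · rw [h, zero_mul, add_zero] at h5
      exact zero_of_mul_σ h5
    · exact h
  subst hr
  refine ⟨q2 S u0 s0 z0 t0 w0 * (S.e 2 p' u' * S.e 3 0 w), ?_, s, by rw [e1]; group⟩
  exact mul_mem (Q2_le_Q1 S (q2_mem S _ _ _ _ _)) (mul_mem hE (Q2_le_Q1 S (S.q2_5 w)))

/-- subgroups of `Q` -/
theorem card_in_Q [Finite G] {A : Subgroup G} (hA : A ≤ S.Q) (hc : ∀ a ∈ A, ∀ b ∈ A, a * b = b * a)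
    (h2 : ∀ a ∈ A, a * a = 1) : Nat.card A ≤ Nat.card F ^ 5 := by
  obtain ⟨hz, hz1⟩ := e201 S
  have hZc : ∀ x ∈ S.Zc 2, ∀ y ∈ S.PL, x * y = y * x := fun x hx y hy => (S.comm_PL hy hx).symm
  have hZPL : S.Zc 2 ≤ S.PL := by
    rintro _ ⟨z, rfl⟩
    exact Q2_PL S (S.q2_3 z)
  obtain ⟨l, hl⟩ := LongRoot.exists_char (S.Zc 2) (fun x hx y hy => hZc x hx y (hZPL hy)) _ hz hz1
  have hcomm : ∀ a ∈ A, ∀ n ∈ S.Q2, ⁅a, n⁆ ∈ S.Zc 2 := by
    intro a ha n hn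
    obtain ⟨t, p, r, s, h, -⟩ := cm_Q S (hA ha)
    obtain ⟨u', s', z', t', w', rfl⟩ := (mem_Q2 S).1 hn
    rw [cm_ge S (h u' s' z' t' w') (Q2_PL S hn) (Q_PL S (hA ha))]
    exact ⟨_, rfl⟩
  have hA12 : A ⊓ S.Q1 = A ⊓ S.Q2 :=
    le_antisymm (fun x hx => ⟨hx.1, mem_Q2_of_sq S hx.2 (h2 x hx.1)⟩) (inf_le_inf_left _ (Q2_le_Q1 S))
  have hpair := LongRoot.pairing A S.Q2 (S.Zc 2) (A ⊓ S.Q2) S.Q1 hcomm
    (fun x hx a ha => hZc x hx a (Q_PL S (hA ha))) (fun x hx n hn => hZc x hx n (Q2_PL S hn)) l inf_le_right (by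
      intro a ha b hb
      have h1 : ⁅a, b⁆ = 1 := commutatorElement_eq_one_iff_mul_comm.2 (hc a ha b hb.1)
      have : (⟨⁅a, b⁆, hcomm a ha b hb.2⟩ : S.Zc 2) = 1 := Subtype.ext h1
      rw [this, map_one]) (by
      intro a ha h
      obtain ⟨t, p, r, s, hc, hq⟩ := cm_Q S (hA ha)
      have key : ∀ u' s' z' t' w' : F, t * w' + p * t' + r * s' + s * u' ≠ 1 := by
        intro u' s' z' t' w' he
        have h1 := h (q2 S u' s' z' t' w') (q2_mem S _ _ _ _ _)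
        apply hl
        rw [← h1]
        congr 1
        apply Subtype.ext
        show S.e 2 0 1 = ⁅a, q2 S u' s' z' t' w'⁆
        rw [cm_ge S (hc u' s' z' t' w') (Q2_PL S (q2_mem S _ _ _ _ _)) (Q_PL S (hA ha)), he]
      refine hq ?_ ?_ ?_ ?_
      · by_contra h0
        exact key 0 0 0 0 t⁻¹ (by rw [mul_inv_cancel₀ h0]; ring)
      · by_contra h0
        exact key 0 0 0 p⁻¹ 0 (by rw [mul_inv_cancel₀ h0]; ring)
      · by_contra h0
        exact key 0 r⁻¹ 0 0 0 (by rw [mul_inv_cancel₀ h0]; ring)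
      · by_contra h0
        exact key s⁻¹ 0 0 0 0 (by rw [mul_inv_cancel₀ h0]; ring))
  rw [hA12, mul_comm] at hpair
  exact (Nat.le_of_mul_le_mul_left hpair Nat.card_pos).trans (card_Q2_le S)

/-- subgroups of `U` -/
theorem card_in_U [Finite G] {A : Subgroup G} (hA : A ≤ J S.XZ 1 8) (hc : ∀ a ∈ A, ∀ b ∈ A, a * b = b * a)
    (h2 : ∀ a ∈ A, a * a = 1) : Nat.card A ≤ Nat.card F ^ 5 := by
  by_cases hQ : A ≤ S.Q
  · exact card_in_Q S hQ hc h2
  obtain ⟨a, ha, haQ⟩ := SetLike.not_le_iff_exists.1 hQ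
  obtain ⟨c, x, hx, rfl⟩ := form_U S (hA ha) (h2 a ha)
  have hc0 : c ≠ 0 := by
    rintro rfl
    rw [S.e_zero, one_mul] at haQ
    exact haQ hx
  have h1 : Nat.card A ≤ Nat.card F * Nat.card (A ⊓ S.Q : Subgroup G) := by
    choose f y hy e using fun b : A => form_U S (hA b.2) (h2 b b.2)
    refine card_le_fib f fun b b' h => ?_
    rw [e b, e b', h]
    have := Perf.Q_norm S (e40_PL S (f b')) (mul_mem (hy b) (inv_mem (hy b')))
    convert this using 1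
    group
  have h3 : Nat.card (A ⊓ S.Q : Subgroup G) ≤ Nat.card F * Nat.card ((A ⊓ S.Q) ⊓ S.Q2 : Subgroup G) := by
    choose m hm f e using fun b : (A ⊓ S.Q : Subgroup G) => form_cent S hc0 hx b.2.2 (h2 b b.2.1) (hc b b.2.1 _ ha)
    refine card_le_fib f fun b b' h => mem_Q2_of_sq S ?_ (h2 _ (mul_mem b.2.1 (inv_mem b'.2.1)))
    rw [e b, e b', h]
    have := mul_mem (hm b) (inv_mem (hm b'))
    convert this using 1
    group
  have h4 : Nat.card ((A ⊓ S.Q) ⊓ S.Q2 : Subgroup G) ≤ Nat.card F ^ 3 := by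
    have h5 : ∀ b : ((A ⊓ S.Q) ⊓ S.Q2 : Subgroup G), ∃ v : F × F × F, (b : G) = q2 S 0 0 v.1 v.2.1 v.2.2 := by
      intro b
      obtain ⟨u, s, z, t, w, e⟩ := (mem_Q2 S).1 b.2.2
      obtain ⟨z', h6⟩ := conj_q2 S c hx u s z t w
      rw [e, mul_assoc, hc b b.2.1.1 _ ha, inv_mul_cancel_left, ← e] at h6
      obtain ⟨-, -, h7, h8⟩ := q2_inj S h6
      have hu : u = 0 := by simpa [hc0] using h7
      have hs : s = 0 := by simpa [hc0, hu] using h8
      exact ⟨(z, t, w), by rw [← e, hu, hs]⟩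
    choose v hv using h5
    have h6 := Nat.card_le_card_of_injective v fun b b' h => Subtype.ext (by rw [hv b, hv b', h])
    rw [Nat.card_prod, Nat.card_prod] at h6
    exact h6.trans (le_of_eq (by ring))
  calc Nat.card A ≤ Nat.card F * (Nat.card F * Nat.card F ^ 3) :=
        h1.trans (Nat.mul_le_mul_left _ (h3.trans (Nat.mul_le_mul_left _ h4)))
    _ = _ := by ring

/-- **the 2-rank** -/
theorem card_le_five [Finite G] (hF : ∃ c : Fˣ, c ≠ 1) (hR : S.R.p = 2) {A : Subgroup G}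
    (hc : ∀ a ∈ A, ∀ b ∈ A, a * b = b * a) (h2 : ∀ a ∈ A, a * a = 1) : Nat.card A ≤ Nat.card F ^ 5 := by
  have : Fact (Nat.Prime 2) := ⟨Nat.prime_two⟩
  obtain ⟨P, hP⟩ := SylU.exists_sylow S hF hR
  have hA : IsPGroup 2 A := fun a => ⟨1, Subtype.ext (by rw [pow_one, pow_two]; exact h2 a a.2)⟩
  obtain ⟨P', hP'⟩ := hA.exists_le_sylow
  obtain ⟨g, hg⟩ := MulAction.exists_smul_eq G P' P
  rw [← Subgroup.card_map_of_injective (K := A) (f := (MulAut.conj g).toMonoidHom) (MulAut.conj g).injective]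
  refine card_in_U S ?_ ?_ ?_
  · rintro _ ⟨a, ha, rfl⟩
    rw [← hP, ← hg]
    exact ⟨a, hP' ha, rfl⟩
  · rintro _ ⟨a, ha, rfl⟩ _ ⟨b, hb, rfl⟩
    rw [← map_mul, ← map_mul, hc a ha b hb]
  · rintro _ ⟨a, ha, rfl⟩
    rw [← map_mul, h2 a ha, map_one]

end Cfsg.Agent.TwoF.DC.TF.F2
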